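import Groth.Agent.PdFlat.Main
import Mathlib.RingTheory.Ideal.AssociatedPrime.Finiteness
import Mathlib.RingTheory.LocalProperties.Projective
import Mathlib.Algebra.Category.ModuleCat.Ext.Basic

/-!
# Tests for projective dimension of finite modules over Noetherian rings
-/

set_option autoImplicit false
set_option linter.style.haveILetI false

universe u

open CategoryTheory CategoryTheory.Abelian

namespace Groth.Agent.PdTest

variable {A : Type u} [CommRing A] [IsNoetherianRing A]

/-- `Ext^i(M, N) = 0` for all finite `N` if it vanishes for the `A ⧸ p`. -/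
theorem subsingleton_ext (M : ModuleCat.{u} A) (i : ℕ)
    (h : ∀ I : Ideal A, Subsingleton (Ext M (ModuleCat.of A (A ⧸ I)) i))
    (N : Type u) [AddCommGroup N] [Module A N] [hN : Module.Finite A N] :
    ∀ x : Ext M (ModuleCat.of A N) i, x = 0 := by
  induction hN using IsNoetherianRing.induction_on_isQuotientEquivQuotientPrime A with
  | subsingleton N =>
    intro x
    haveI := ModuleCat.isZero_of_subsingleton (ModuleCat.of A N)
    rw [← Ext.comp_mk₀_id x, (this.eq_of_src (𝟙 _) 0), Ext.mk₀_zero, Ext.comp_zero]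
  | quotient N p e =>
    intro x
    have h1 : x.comp (Ext.mk₀ (ModuleCat.ofHom e.toLinearMap)) (add_zero i) = 0 := (h p.1).elim _ _
    have h2 : x = (x.comp (Ext.mk₀ (ModuleCat.ofHom e.toLinearMap)) (add_zero i)).comp
        (Ext.mk₀ (ModuleCat.ofHom e.symm.toLinearMap)) (add_zero i) := by
      rw [Ext.comp_assoc_of_third_deg_zero, Ext.mk₀_comp_mk₀,
        show ModuleCat.ofHom e.toLinearMap ≫ ModuleCat.ofHom e.symm.toLinearMap = 𝟙 _ from
          ModuleCat.hom_ext (LinearMap.ext fun y => e.symm_apply_apply y), Ext.comp_mk₀_id]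
    rw [h2, h1, Ext.zero_comp]
  | exact N₁ N₂ N₃ f g hf hg hfg h1 h3 =>
    intro x
    have hS := TorLib.shortExact_mk f g hf hg hfg
    obtain ⟨x₁, hx₁⟩ := Ext.covariant_sequence_exact₂ M hS x (h3 _)
    rw [← hx₁, h1 x₁]
    exact Ext.zero_comp ..

theorem projective_of_ext (M : Type u) [AddCommGroup M] [Module A M] [Module.Finite A M]
    (h : ∀ I : Ideal A, Subsingleton (Ext (ModuleCat.of A M) (ModuleCat.of A (A ⧸ I)) 1)) :
    Module.Projective A M := by
  obtain ⟨m, g, hg⟩ := Module.Finite.exists_fin' A M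
  have hS := TorLib.shortExact_mk (LinearMap.ker g).subtype g Subtype.val_injective hg
    (LinearMap.exact_subtype_ker_map g)
  obtain ⟨r, hr⟩ := Ext.contravariant_sequence_exact₁ hS (ModuleCat.of A (LinearMap.ker g))
    (Ext.mk₀ (𝟙 _)) (n₁ := 1) rfl (subsingleton_ext _ 1 h _ _)
  obtain ⟨φ, rfl⟩ := (Ext.mk₀_bijective _ _).2 r
  rw [Ext.mk₀_comp_mk₀, (Ext.mk₀_bijective _ _).1.eq_iff] at hr
  have hφ : ∀ z : LinearMap.ker g, φ.hom z.1 = z := fun z => DFunLike.congr_fun (congrArg ModuleCat.Hom.hom hr) z
  let t : (Fin m → A) →ₗ[A] (Fin m → A) := LinearMap.id - (LinearMap.ker g).subtype.comp φ.hom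
  have ht : LinearMap.ker g ≤ LinearMap.ker t := fun z hz => by
    have := congrArg Subtype.val (hφ ⟨z, hz⟩)
    exact LinearMap.mem_ker.2 (sub_eq_zero.2 this.symm)
  let s : M →ₗ[A] (Fin m → A) := ((LinearMap.ker g).liftQ t ht).comp (g.quotKerEquivOfSurjective hg).symm.toLinearMap
  refine Module.Projective.of_split s g (LinearMap.ext fun y => ?_)
  obtain ⟨z, rfl⟩ := hg y
  have he : (g.quotKerEquivOfSurjective hg).symm (g z) = Submodule.Quotient.mk z :=
    (LinearEquiv.symm_apply_eq _).2 rfl
  show g ((LinearMap.ker g).liftQ t ht ((g.quotKerEquivOfSurjective hg).symm (g z))) = g z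
  rw [he]
  show g (z - (φ.hom z : LinearMap.ker g).1) = g z
  rw [map_sub, LinearMap.mem_ker.1 (φ.hom z : LinearMap.ker g).2, sub_zero]

theorem hasPDLT_iff_ext : ∀ (n : ℕ) (M : Type u) [AddCommGroup M] [Module A M] [Module.Finite A M],
    HasProjectiveDimensionLT (ModuleCat.of A M) (n + 1) ↔
      ∀ I : Ideal A, Subsingleton (Ext (ModuleCat.of A M) (ModuleCat.of A (A ⧸ I)) (n + 1)) := by
  intro n M _ _ _
  refine ⟨fun h I => h.subsingleton (ModuleCat.of A M) (n + 1) (n + 1) le_rfl _, ?_⟩
  induction n generalizing M with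
  | zero => exact fun h => (PdFlat.hasPDLT_one_iff M).2 (projective_of_ext M h)
  | succ n ih =>
    intro h
    obtain ⟨m, g, hg⟩ := Module.Finite.exists_fin' A M
    have hS := TorLib.shortExact_mk (LinearMap.ker g).subtype g Subtype.val_injective hg
      (LinearMap.exact_subtype_ker_map g)
    rw [PdFlat.hasPDLT_succ_iff (LinearMap.ker g).subtype g Subtype.val_injective hg
      (LinearMap.exact_subtype_ker_map g) n]
    refine ih (LinearMap.ker g) fun I => ⟨fun a b => ?_⟩
    haveI : Projective (ModuleCat.of A (Fin m → A)) :=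
      (IsProjective.iff_projective (R := A) (P := Fin m → A)).mp inferInstance
    have key : ∀ c : Ext (ModuleCat.of A (LinearMap.ker g)) (ModuleCat.of A (A ⧸ I)) (n + 1), c = 0 := fun c => by
      obtain ⟨x, rfl⟩ := Ext.contravariant_sequence_exact₁ hS _ c (n₁ := n + 2) (by omega) ((h I).elim _ _)
      rw [Ext.eq_zero_of_projective x, Ext.comp_zero]
    rw [key a, key b]

theorem hasPDLT_iff_localizations : ∀ (n : ℕ) (M : Type u) [AddCommGroup M] [Module A M] [Module.Finite A M],
    HasProjectiveDimensionLT (ModuleCat.of A M) (n + 1) ↔ ∀ p : PrimeSpectrum A, HasProjectiveDimensionLT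
      (ModuleCat.of (Localization.AtPrime p.asIdeal) (LocalizedModule p.asIdeal.primeCompl M)) (n + 1) := by
  intro n
  induction n with
  | zero =>
    intro M _ _ _
    simp only [Nat.zero_add, PdFlat.hasPDLT_one_iff]
    haveI := Module.finitePresentation_of_finite A M
    exact ⟨fun _ p => inferInstance, fun h => Module.projective_of_localization_maximal fun I hI => h ⟨I, inferInstance⟩⟩
  | succ n ih =>
    intro M _ _ _
    obtain ⟨m, g, hg⟩ := Module.Finite.exists_fin' A M
    rw [PdFlat.hasPDLT_succ_iff (LinearMap.ker g).subtype g Subtype.val_injective hg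
      (LinearMap.exact_subtype_ker_map g) n, ih (LinearMap.ker g)]
    refine forall_congr' fun p => ?_
    let S := p.asIdeal.primeCompl
    haveI : Module.Projective (Localization S) (LocalizedModule S (Fin m → A)) := inferInstance
    exact (PdFlat.hasPDLT_succ_iff (LocalizedModule.map S (LinearMap.ker g).subtype) (LocalizedModule.map S g)
      (LocalizedModule.map_injective S _ Subtype.val_injective) (LocalizedModule.map_surjective S _ hg)
      (LocalizedModule.map_exact S _ g (LinearMap.exact_subtype_ker_map g)) n).symm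

end Groth.Agent.PdTest
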